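import Cfsg.Agent.GCT.PB0
import Cfsg.Agent.GCT.PA
import Cfsg.Agent.H70.YL2

/-! `T` normalizes `V` (notes/GCT.md, part 3, section PB). -/

set_option autoImplicit false
set_option linter.unusedVariables false
set_option linter.unusedSectionVars false

namespace Cfsg.Agent.GCT

open Cfsg Subgroup Matrix
open Cfsg.Agent.H70 (cj IsChar)
open Cfsg.Agent.H92 (SylIn)
open Cfsg.Agent.H69 (zOf Zv)
open Cfsg.Agent.H21 (maxEAOf)
open Cfsg.Agent.GOLD (EA)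
open Cfsg.Agent.R2 (Two)
open Cfsg.Agent.J3 (E2)
open scoped Cfsg.Agent.H49 Cfsg.Agent.H72 commutatorElement

universe u

variable {G : Type u} [Group G] [Finite G]

variable {H H' T K K' B L L' V V' N P : Subgroup G} {q q' : ℕ}

namespace PB

theorem cmL {X : Subgroup G} {r s : G} (hr : r ∈ X) (hs : s ∈ 𝒩(X)) : ⁅r, s⁆ ∈ X := by
  rw [show ⁅r, s⁆ = r * (s * r⁻¹ * s⁻¹) by group]
  exact mul_mem hr (H70.conj_mem_of_mem_norm hs (inv_mem hr))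

theorem cmR {X : Subgroup G} {r s : G} (hr : r ∈ 𝒩(X)) (hs : s ∈ X) : ⁅r, s⁆ ∈ X :=
  mul_mem (H70.conj_mem_of_mem_norm hr hs) (inv_mem hs)

theorem cj_eq (r s : G) : r * s * r⁻¹ = ⁅r, s⁆ * s := by group

/-- an element acting trivially modulo `C(V')` normalizes the partner `V` of `V'` -/
theorem normV (g : Good B V q) (g' : Good B V' q') (hB : Cl2 B) (n : ¬ V ≤ 𝒞(V')) {r : G}
    (hr : r ∈ 𝒩(B)) (h : ∀ s ∈ B, ⁅r, s⁆ ∈ 𝒞(V')) {a : G} (ha : a ∈ V) : ⁅r, a⁆ ∈ zOf B := by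
  have e : cj r V = V := g'.uniq g (g.cj hr) hB (mt H70.cent_comm.1 n) fun e => n fun a ha => by
    have := H70.cent_comm.1 e (H70.conj_mem_cj r ha)
    rw [cj_eq] at this
    exact (mul_mem_cancel_left (h a (g.VB ha))).1 this
  exact (g.inf_cent g' n).le ⟨cmR (H70.cj_eq_self_iff.1 e) ha, h a (g.VB ha)⟩

theorem comm_Z (hB : Cl2 B) {z z' a a' : G} (hz : z ∈ zOf B) (hz' : z' ∈ zOf B) (ha : a ∈ B)
    (ha' : a' ∈ B) : ⁅z' * a', z * a⁆ = ⁅a', a⁆ := by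
  rw [hB.comm_mul_left hz'.1 ha' (mul_mem hz.1 ha), hB.comm_mul_right ha' hz.1 ha,
    commutatorElement_eq_one_iff_mul_comm.2 (hz'.2 _ (mul_mem hz.1 ha)).symm,
    commutatorElement_eq_one_iff_mul_comm.2 (hz.2 _ ha'), one_mul, one_mul]

theorem mem_B (h : Sd H T K B L V V' q) (hP : IsPGroup 2 P) (nP : L ≤ 𝒩(P))
    (h1 : P ⊓ B ≤ B ⊓ 𝒞(V) ⊓ 𝒞(V')) (h2 : P ⊓ B ≤ 𝒞(pResidualOf 2 L)) {r : G} (hr : r ∈ P)
    (hA : r ∈ 𝒞(B ⊓ 𝒞(V) ⊓ 𝒞(pResidualOf 2 L))) (hB : r ∈ 𝒩(B)) : r ∈ B := by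
  have g := h.good
  have g' := h.par
  have c := h.cl
  obtain ⟨F, _, _, v, m, -, k⟩ := h.re
  have a1 : ∀ s ∈ B, ⁅r, s⁆ ∈ B ⊓ 𝒞(V) ⊓ 𝒞(V') := fun s hs => h1 ⟨cmL hr (nP (k.BL hs)), cmR hB hs⟩
  have a2 : ∀ a ∈ V, ⁅r, a⁆ ∈ zOf B := fun a => normV g g' c h.nc hB fun s hs => (a1 s hs).2
  have a3 : ∀ a ∈ V', ⁅r, a⁆ ∈ zOf B := fun a =>
    normV g' g c (mt H70.cent_comm.1 h.nc) hB fun s hs => (a1 s hs).1.2
  have aD : V ⊓ 𝒞(L) ≤ 𝒞[r] := fun d hd =>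
    H49.mem_cent1.2 (hA d ⟨⟨k.VB hd.1, k.VC hd.1⟩, H70.cent_anti k.EL hd.2⟩)
  have aZ : zOf B ≤ 𝒞[r] := fun z hz => by
    obtain ⟨a, ha, a', ha', d, hd, rfl⟩ := k.Z_split c g' h.nc hz
    refine mul_mem (H49.mem_cent1.2 (eq_mul_inv_iff_mul_eq.1 ?_)) (aD hd)
    rw [conjugate_commutatorElement, cj_eq, cj_eq, comm_Z c (a2 a ha) (a3 a' ha') (g.VB ha) (g'.VB ha')]
  have aC : B ⊓ 𝒞(V) ⊓ 𝒞(V') ≤ 𝒞[r] := fun x hx => by
    obtain ⟨z, hz, e⟩ := k.inner c hx.1 fun s hs => by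
      obtain ⟨a', ha', c', hc', rfl⟩ := g.cover g' c h.nc hs
      rw [c.comm_mul_left (g'.VB ha') hc'.1 hx.1.1, commutatorElement_eq_one_iff_mul_comm.2 (hx.2 a' ha'),
        one_mul]
      exact (k.Ph_le c (comm_mem_Ph hc' hx.1)).2
    exact (mul_mem_cancel_right (aZ hz)).1
      (H49.mem_cent1.2 (hA _ ⟨mul_mem hx.1 ⟨hz.1, k.VC (g.ZV hz)⟩, e⟩))
  have a4 : ∀ s ∈ B, ⁅r, s⁆ ∈ zOf B := fun s hs => by
    obtain ⟨a, ha, a', ha', x, hx, rfl⟩ := g.split g' c h.nc hs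
    rw [show ⁅r, a * a' * x⁆ = ⁅r, a⁆ * (a * ⁅r, a'⁆ * a⁻¹) * (a * a' * ⁅r, x⁆ * (a * a')⁻¹) by group,
      commutatorElement_eq_one_iff_mul_comm.2 (H49.mem_cent1.1 (aC hx)).symm, mul_one, mul_inv_cancel, mul_one]
    exact mul_mem (a2 a ha) (H70.conj_mem_of_mem_norm (norm_zOf le_normalizer (g.VB ha)) (a3 a' ha'))
  have zR : zOf B ≤ B ⊓ pCoreOf 2 H := le_inf inf_le_left h.Z_le
  have hK : r ∈ 𝒩(K) := h.un _ c.pg.to_inf_left (fun e => k.Z_not_le (zR.trans (e.le.trans bot_le)))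
    h.normR (H70.mem_normalizer_of_cj_le (H70.cj_le_iff.2 fun s hs => by
      rw [cj_eq]; exact mul_mem (zR (a4 s hs.1)) hs))
  have nY : L ≤ 𝒩(P ⊓ K) := H70.norm_inf nP (h.le.trans h.nK)
  have b1 : ⁅P ⊓ K, pResidualOf 2 L⁆ ≤ P ⊓ B := le_inf
    ((H70.commutator_le_left_of_norm (k.EL.trans nY)).trans inf_le_left)
    ((h.re.k2a c g' h.nc hP.to_inf_left nY (h.le_norm hP.to_inf_left (inf_le_right.trans h.toPu.le)
      (k.BL.trans nY))).2.2.trans (k.U_le.trans k.VB))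
  have b2 := H70.pRes_le_cent_of_step hP.to_inf_left b1 (H70.cent_comm.1 h2)
  rw [H70.pRes_pRes] at b2
  have b3 := H70.pRes_le_cent_of_step (V := P ⊓ 𝒩(K)) hP.to_inf_left (commutator_le.2 fun y hy e he =>
    ⟨cmL hy.1 (nP (k.EL he)), cmR hy.2 (h.E_le he)⟩) b2
  rw [H70.pRes_pRes] at b3
  have aV : V ≤ 𝒞[r] := fun a ha => by
    obtain ⟨u, hu, d, hd, rfl⟩ := k.exists_U ha
    exact mul_mem (H49.mem_cent1.2 (b3 (k.U_le_res hu) r ⟨hr, hK⟩).symm) (aD hd)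
  have aW : r ∈ 𝒞(H70.ncl ⁅V, pResidualOf 2 L⁆ T) := H49.le_cent1_iff.1 (H70.ncl_le_iff.2 fun t ht => by
    by_cases n : t ∈ 𝒩(V)
    · exact (H70.cj_le_of_mem_norm n k.U_le).trans aV
    · obtain ⟨f1, f2, -⟩ := h.far ht n
      exact (H70.cj_mono t k.U_le).trans ((le_inf (le_inf
        (H70.cj_le_of_mem_norm (h.top.norm ht) k.VB) f1) f2).trans aC))
  exact h.mem_B (J3.e2_of_mem hP hr) hB hK (H49.le_cent1_iff.1 aZ) fun x hx =>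
    h.centW ⟨h.toPu.le (cmR hK hx), cmL aW (H70.norm_centralizer h.normW (h.toPu.le hx))⟩

theorem no_over (h : Sd2 H H' T K K' B L L' V V' q) (hN : IsChar 2 N) (l : L ≤ N) (l' : L' ≤ N) :
    False := by
  have g := h.s.good
  have g' := h.s.par
  have c := h.s.cl
  obtain ⟨F, _, _, v, m, -, k⟩ := h.s.re
  obtain ⟨F', _, _, v', m', -, k'⟩ := h.s'.re
  have hP := H70.pCoreOf_isPGroup (p := 2) N
  have nP := l.trans (H70.le_norm_pCoreOf (p := 2) N)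
  have q1 : pCoreOf 2 N ⊓ L ≤ pCoreOf 2 L := H70.pCoreOf_inf_le l
  have h1 : pCoreOf 2 N ⊓ B ≤ B ⊓ 𝒞(V) ⊓ 𝒞(V') := le_inf
    (((inf_le_inf_left _ k.BL).trans q1).trans k.core_eq.le)
    (((inf_le_inf_left _ k'.BL).trans (H70.pCoreOf_inf_le l')).trans k'.QC)
  have n1 : L ≤ 𝒩(pCoreOf 2 N ⊓ L) := H70.norm_inf nP le_normalizer
  have h3 : ⁅pCoreOf 2 N ⊓ L, L⁆ ≤ zOf B := (le_inf ((commutator_mono q1 le_rfl).trans (k.commQ c))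
    ((H70.commutator_le_left_of_norm n1).trans ((le_inf inf_le_left (q1.trans k.QB)).trans
      (h1.trans inf_le_right)))).trans (g.inf_cent g' h.s.nc).le
  have h2 : pCoreOf 2 N ⊓ B ≤ 𝒞(pResidualOf 2 L) := (inf_le_inf_left _ k.BL).trans (H70.cent_comm.1
    (H70.pRes_le_cent_of_step (c.pg.to_le (h3.trans inf_le_left)) le_rfl (H70.cent_comm.1
      (k.inv_le (h3.trans inf_le_right) (H70.norm_commutator n1 le_normalizer)))))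
  obtain ⟨A, hA⟩ : ∃ A, A = B ⊓ 𝒞(V) ⊓ 𝒞(pResidualOf 2 L) := ⟨_, rfl⟩
  have AB : A ≤ B := hA ▸ inf_le_left.trans inf_le_left
  have nX : B ≤ 𝒩(pCoreOf 2 N ⊓ 𝒞(A)) := k.BL.trans (H70.norm_inf nP (H70.norm_centralizer
    (hA ▸ H70.norm_inf (k.core_eq ▸ k.normQ) (H70.norm_centralizer (H70.le_norm_pRes L)))))
  have h4 : pCoreOf 2 N ⊓ 𝒞(A) ≤ B := by
    refine le_sup_left.trans (H70.eq_of_inf_norm_le (H70.isPGroup_sup_of_norm' hP.to_inf_left c.pg nX)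
      le_sup_right fun y hy => ?_).ge
    obtain ⟨r, hr, b, hb, rfl⟩ := (H70.mem_sup_of_norm' nX).1 hy.1
    exact mul_mem (mem_B h.s hP nP h1 h2 hr.1 (hA ▸ hr.2)
      ((mul_mem_cancel_right (le_normalizer hb)).1 hy.2)) hb
  have h5 := H70.pRes_le_cent_of_PxQ hP (c.pg.to_le AB) (AB.trans (k.BL.trans nP)) (k.EL.trans nP)
    ((H70.comm_le_bot_iff.2 (hA ▸ inf_le_right)).trans bot_le) ((le_inf inf_le_left h4).trans h2)
  rw [H70.pRes_pRes] at h5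
  exact k.not_pgroup (hP.to_le ((le_inf (k.EL.trans l) h5).trans hN))

end PB

theorem Sd2.norm (h : Sd2 H H' T K K' B L L' V V' q) : T ≤ 𝒩(V) := fun t ht => by
  by_contra n
  obtain ⟨f1, f2, f3, n'⟩ := h.s.far ht n
  obtain ⟨f4, -⟩ := h.s'.far ht n'
  have c := h.s.cl
  obtain ⟨F, _, _, v, m, -, k⟩ := h.s.re
  obtain ⟨F', _, _, v', m', -, k'⟩ := h.s'.re
  have b := H70.cj_le_of_mem_norm (h.s.top.norm ht) k.VB
  have b' := H70.cj_le_of_mem_norm (h.s.top.norm ht) k'.VB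
  refine h.s.nc ((H70.cj_le_cj_iff t).1 ?_)
  rw [H70.cj_centralizer]
  intro a ha a' ha'
  by_contra e
  have d := k.Ph_le c (comm_mem_Ph ⟨b' ha', f3 ha'⟩ ⟨b ha, f1 ha⟩)
  have d' := k'.Ph_le c (comm_mem_Ph ⟨b' ha', f4 ha'⟩ ⟨b ha, f2 ha⟩)
  exact PB.no_over h (h.s.lc.centE (k.sqV d.1) (mt commutatorElement_eq_one_iff_mul_comm.1 e))
    (H49.le_cent1_iff.2 d.2) (H49.le_cent1_iff.2 d'.2)

end Cfsg.Agent.GCT
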