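import Cfsg.Agent.GCT.PDefs
import Cfsg.Agent.GCT.K
import Cfsg.Agent.J3.Basic

set_option autoImplicit false
set_option linter.unusedVariables false
set_option linter.unusedSectionVars false

namespace Cfsg.Agent.GCT

open Cfsg Subgroup Matrix
open Cfsg.Agent.H70 (cj IsChar)
open Cfsg.Agent.H92 (SylIn)
open Cfsg.Agent.H69 (zOf Zv)
open Cfsg.Agent.H21 (maxEAOf)
open Cfsg.Agent.GOLD (EA)
open Cfsg.Agent.R2 (Two)
open Cfsg.Agent.J3 (E2)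
open scoped Cfsg.Agent.H49 Cfsg.Agent.H72 commutatorElement

universe u

variable {G : Type u} [Group G] [Finite G]

variable {H T K B L V V' : Subgroup G} {q : ℕ}

theorem Sd.good (h : Sd H T K B L V V' q) : Good B V q := h.re.good h.cl

theorem Sd.E_le (h : Sd H T K B L V V' q) : pResidualOf 2 L ≤ K := h.res ▸ H70.pRes_mono h.le

theorem Sd.U_le (h : Sd H T K B L V V' q) :
    ⁅V, pResidualOf 2 L⁆ ≤ pCoreOf 2 H ⊓ 𝒞(pCoreOf 2 H) :=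
  h.re.k2 h.cl h.par h.nc h.ch h.le (h.core_le.trans h.top.norm)

theorem Sd.commR (h : Sd H T K B L V V' q) :
    ⁅pCoreOf 2 H, pResidualOf 2 L⁆ ≤ ⁅V, pResidualOf 2 L⁆ :=
  (h.re.k2a h.cl h.par h.nc (H70.pCoreOf_isPGroup H) (h.le.trans (H70.le_norm_pCoreOf H))
    (h.core_le.trans h.top.norm)).2.2

theorem Sd.norm_of (h : Sd H T K B L V V' q) {X : Subgroup G} (h1 : T ≤ 𝒩(X))
    (h2 : pResidualOf 2 L ≤ 𝒩(X)) : H ≤ 𝒩(X) := by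
  obtain ⟨F, _, _, v, m, -, r⟩ := h.re
  exact h.sup.ge.trans (sup_le h1 (r.res_sup.ge.trans (sup_le h2 (h.top.le.trans h1))))

theorem Sd.TR (h : Sd H T K B L V V' q) : T ≤ 𝒩(pCoreOf 2 H) := h.syl.le.trans (H70.le_norm_pCoreOf H)

theorem Sd.UB (h : Sd H T K B L V V' q) : ⁅V, pResidualOf 2 L⁆ ≤ B := by
  obtain ⟨F, _, _, v, m, -, r⟩ := h.re
  exact r.U_le.trans r.VB

theorem Sd.comm (h : Sd H T K B L V V' q) {g : G} (hg : g ∈ 𝒩(B)) (hR : g ∈ 𝒩(pCoreOf 2 H)) :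
    V ≤ 𝒞(cj g V) := by
  obtain ⟨F, _, _, v, m, -, r⟩ := h.re
  rintro a ha _ ⟨b, hb, rfl⟩
  obtain ⟨u, hu, d, hd, rfl⟩ := r.exists_U ha
  have a1 : Commute (g * b * g⁻¹) d := (r.DZ hd).2 _ (H70.conj_mem_of_mem_norm hg (r.VB hb))
  obtain ⟨u', hu', d', hd', rfl⟩ := r.exists_U hb
  have a2 : Commute (g * u' * g⁻¹) u := (h.U_le hu).2 _ (H70.conj_mem_of_mem_norm hR (h.U_le hu').1)
  have a3 : Commute u (g * d' * g⁻¹) :=
    (H70.conj_mem_of_mem_norm (norm_zOf le_rfl hg) (r.DZ hd')).2 _ (h.UB hu)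
  refine Commute.mul_right (a := g * (u' * d') * g⁻¹) ?_ a1
  rw [← conj_mul]
  exact a2.mul_left a3.symm

theorem Sd.far (h : Sd H T K B L V V' q) {t : G} (ht : t ∈ T) (n : t ∉ 𝒩(V)) :
    cj t V ≤ 𝒞(V) ∧ cj t V ≤ 𝒞(V') ∧ cj t V' ≤ 𝒞(V) ∧ t ∉ 𝒩(V') := by
  have hB := h.top.norm ht
  have a2 : cj t V ≤ 𝒞(V') := by_contra fun e => n (H70.cj_eq_self_iff.1
    (h.par.uniq h.good (h.good.cj hB) h.cl (mt H70.cent_comm.1 h.nc) (mt H70.cent_comm.1 e)))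
  have a4 : t ∉ 𝒩(V') := fun e => h.nc (by
    rwa [← H70.cj_eq_self e, ← H70.cj_centralizer, H70.cj_le_cj_iff] at a2)
  exact ⟨H70.cent_comm.1 (h.comm hB (h.TR ht)), a2, by_contra fun e => a4 (H70.cj_eq_self_iff.1
    (h.good.uniq h.par (h.par.cj hB) h.cl h.nc (mt H70.cent_comm.1 e))), a4⟩

theorem Sd.normW (h : Sd H T K B L V V' q) : H ≤ 𝒩(H70.ncl ⁅V, pResidualOf 2 L⁆ T) :=
  h.norm_of (H70.le_norm_ncl _ _) (H70.norm_of_commutator_le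
    (((commutator_mono (H70.ncl_le (h.U_le.trans inf_le_left) h.TR) le_rfl).trans h.commR).trans (H70.le_ncl _ _)))

theorem Sd.centW (h : Sd H T K B L V V' q) :
    H ⊓ 𝒞(H70.ncl ⁅V, pResidualOf 2 L⁆ T) ≤ pCoreOf 2 H := by
  obtain ⟨F, _, _, v, m, -, r⟩ := h.re
  refine h.inf_le (H70.norm_centralizer h.normW) fun e => r.U_not_le ?_
  rw [← r.comm_U, H70.comm_eq_bot_iff'.2 ((h.E_le.trans e).trans (H70.cent_anti (H70.le_ncl _ _)))]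
  exact bot_le

theorem Sd.Z_le (h : Sd H T K B L V V' q) : zOf B ≤ pCoreOf 2 H :=
  (le_inf ((inf_le_left.trans h.top.le).trans h.syl.le)
    (inf_le_right.trans (H70.cent_anti (H70.ncl_le h.UB h.top.norm)))).trans h.centW

theorem Sd.normR (h : Sd H T K B L V V' q) : H ≤ 𝒩(B ⊓ pCoreOf 2 H) :=
  h.norm_of (H70.norm_inf h.top.norm h.TR) (H70.norm_of_commutator_le
    (((commutator_mono inf_le_right le_rfl).trans h.commR).trans (le_inf h.UB (h.U_le.trans inf_le_left))))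

theorem Sd.le_norm (h : Sd H T K B L V V' q) {Y : Subgroup G} (hY : IsPGroup 2 Y) (h1 : Y ≤ H)
    (h2 : B ≤ 𝒩(Y)) : Y ≤ 𝒩(B) := by
  have a := H72.jt_eq_of_pgroup h.syl (H70.isPGroup_sup_of_norm' hY h.cl.pg h2)
    (sup_le h1 (h.top.le.trans h.syl.le)) (h.top.jt.le.trans le_sup_right)
  rw [h.top.jt] at a
  exact le_sup_left.trans (a ▸ H72.le_norm_jt (T := Y ⊔ B))

theorem Sd.mem_B (h : Sd H T K B L V V' q) {r : G} (h2 : E2 r) (h1 : r ∈ 𝒩(B)) (hK : r ∈ 𝒩(K))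
    (hZ : r ∈ 𝒞(zOf B)) (hc : ∀ k ∈ K, ⁅r, k⁆ ∈ pCoreOf 2 H) : r ∈ B := by
  have e := H72.pCoreOf_eq_of_normal (p := 2) h.toPu.le h.nK
  have nP : 𝒩(K) ≤ 𝒩(pCoreOf 2 K) := H70.norm_pCoreOf le_rfl
  let C := 𝒩(K) ⊓ H70.relCent (K : Set G) (pCoreOf 2 K)
  have mC : ∀ x ∈ 𝒩(K), (∀ k ∈ K, ⁅x, k⁆ ∈ pCoreOf 2 H) → x ∈ C := fun x hx hk =>
    ⟨hx, nP hx, fun k hk' => e ▸ ⟨mul_mem (H70.conj_mem_of_mem_norm hx hk') (K.inv_mem hk'), hk k hk'⟩⟩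
  have TK : T ≤ 𝒩(K) := h.syl.le.trans h.nK
  have nC : T ≤ 𝒩(C) := H70.le_norm_iff_cj.2 fun g hg => H70.cj_le_iff.2 fun c hc =>
    mC _ (mul_mem (mul_mem (TK hg) hc.1) (inv_mem (TK hg))) fun k hk => by
      rw [show ⁅g * c * g⁻¹, k⁆ = g * ⁅c, g⁻¹ * k * g⁆ * g⁻¹ by group]
      exact H70.conj_mem_of_mem_norm (h.TR hg) (e.le (hc.2.2 _ (H70.conj_mem_of_mem_norm' (TK hg) hk))).2
  have RC : pCoreOf 2 H ≤ C := fun x hx => mC x (TK (h.core_le hx)) fun k hk =>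
    H70.commutator_le_left_of_norm (h.toPu.le.trans (H70.le_norm_pCoreOf H)) (commutator_mem_commutator hx hk)
  have sy : SylIn 2 T (T ⊔ C) := ⟨le_sup_left, h.syl.pgroup, fun S h1 h2 h3 => le_antisymm (fun s hs => by
    obtain ⟨t, ht, c, hc, rfl⟩ := (H70.mem_sup_of_norm nC).1 (h1 hs)
    exact mul_mem ht (h.core_le (h.hs (S ⊓ C) (h2.to_le inf_le_left) (le_inf (h.core_le.trans h3) RC)
      (inf_le_right.trans inf_le_left) (commutator_le.2 fun x hx k hk => (e.le (hx.2.2.2 k hk)).2)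
      ⟨(mul_mem_cancel_left (h3 ht)).1 hs, hc⟩))) h3⟩
  have p1 := H70.isPGroup_sup_of_norm (J3.E2.isPGroup h2) h.cl.pg (zpowers_le.2 h1)
  have l1 : zpowers r ⊔ B ≤ T ⊔ C :=
    sup_le (zpowers_le.2 (mem_sup_right (mC r hK hc))) (h.top.le.trans le_sup_left)
  have a1 := H72.jt_eq_of_pgroup sy p1 l1 (h.top.jt.le.trans le_sup_right)
  have a2 := H72.bm_eq_of_pgroup sy p1 l1 ((h.top.bm h.cl).le.trans le_sup_right)
  rw [h.top.bm h.cl, H72.bm_def, a1, h.top.jt, h.cl.oz_eq] at a2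
  exact a2.le ⟨mem_sup_left (mem_zpowers r), hZ⟩

end Cfsg.Agent.GCT
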