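import Cfsg.Agent.GCT.PB

set_option autoImplicit false
set_option linter.unusedVariables false
set_option linter.unusedSectionVars false

namespace Cfsg.Agent.GCT

open Cfsg Subgroup Matrix
open Cfsg.Agent.H70 (cj IsChar)
open Cfsg.Agent.H92 (SylIn)
open Cfsg.Agent.H69 (zOf Zv)
open Cfsg.Agent.H21 (maxEAOf)
open Cfsg.Agent.GOLD (EA)
open Cfsg.Agent.R2 (Two)
open Cfsg.Agent.J3 (E2)
open scoped Cfsg.Agent.H49 Cfsg.Agent.H72 commutatorElement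

universe u

variable {G : Type u} [Group G] [Finite G]

variable {H H' T K K' B L L' V V' : Subgroup G} {q : ℕ}

theorem Sd.nV (h : Sd H T K B L V V' q) (hT : T ≤ 𝒩(V)) : H ≤ 𝒩(V) := by
  obtain ⟨F, _, _, v, m, -, r⟩ := h.re
  exact h.norm_of hT (r.EL.trans r.norm)

theorem Sd.res_eq' (h : Sd H T K B L V V' q) (hT : T ≤ 𝒩(V)) : pResidualOf 2 L = K := by
  obtain ⟨F, _, _, v, m, -, r⟩ := h.re
  have a1 : H ⊓ 𝒞(V) ≤ pCoreOf 2 H := h.inf_le (H70.norm_centralizer (h.nV hT)) fun e => r.U_not_le (by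
    rw [H70.comm_eq_bot_iff'.2 (h.E_le.trans e)]; exact bot_le)
  have a2 : H ≤ 𝒩(pResidualOf 2 L ⊔ pCoreOf 2 H) := h.norm_of (H70.le_norm_iff_cj.2 fun t ht => by
    rw [H70.cj_sup, H70.cj_eq_self (h.TR ht)]
    exact sup_le ((h.uq t ht (hT ht)).trans (sup_le_sup_left a1 _)) le_sup_right) (H70.norm_of_le le_sup_left)
  have a3 := (h.sim _ a2).resolve_right fun e => r.not_pgroup (e.to_le (le_inf h.E_le le_sup_left))
  exact le_antisymm h.E_le (h.res_eq.ge.trans ((H70.pRes_mono a3).trans (H70.pRes_sup_le_of_isPGroup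
    (H70.pCoreOf_isPGroup H) (H70.norm_of_commutator_le ((commutator_comm _ _).le.trans (h.commR.trans r.U_le_res))))))

theorem Sd2.nD (h : Sd2 H H' T K K' B L L' V V' q) : T ≤ 𝒩(V ⊓ 𝒞(L)) := by
  obtain ⟨F, _, _, v, m, -, r⟩ := h.s.re
  rw [← r.cent_res, h.s.res_eq' h.norm]
  exact H70.norm_inf h.norm (H70.norm_centralizer (h.s.syl.le.trans h.s.nK))

theorem Sd2.disj (h : Sd2 H H' T K K' B L L' V V' q) : V ⊓ 𝒞(L) ⊓ (V' ⊓ 𝒞(L')) = ⊥ := by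
  have a := H70.norm_inf h.nD h.symm.nD
  refine h.two _ (h.s.cl.pg.to_le ((inf_le_left.trans inf_le_left).trans h.s.good.VB)) (h.s.norm_of a ?_)
    (h.s'.norm_of a ?_)
  · exact H70.norm_of_cent ((H70.pRes_le L).trans (H70.cent_comm.1 (inf_le_left.trans inf_le_right)))
  · exact H70.norm_of_cent ((H70.pRes_le L').trans (H70.cent_comm.1 (inf_le_right.trans inf_le_right)))

theorem Sd2.core_eq (h : Sd2 H H' T K K' B L L' V V' q) : pCoreOf 2 H = B ⊓ 𝒞(V) := by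
  obtain ⟨F, _, _, v, m, -, r⟩ := h.s.re
  obtain ⟨F', _, _, v', m', -, r'⟩ := h.s'.re
  have key : ∀ x ∈ pCoreOf 2 H, ∀ a ∈ V, ∀ a' ∈ V', ∀ D : Subgroup G, T ≤ 𝒩(D) → ∀ d ∈ D,
      ⁅x, ⁅a', a⁆ * d⁆ ∈ D := fun x hx a ha a' ha' D hD d hd => by
    have a1 := r.comm_mem_U (r.BL (r'.VB ha')) ha
    have a2 := (h.s.U_le a1).2 x hx
    generalize ⁅a', a⁆ = c at *
    rw [show ⁅x, c * d⁆ = x * c * d * x⁻¹ * d⁻¹ * c⁻¹ by group, a2,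
      show c * x * d * x⁻¹ * d⁻¹ * c⁻¹ = c * (x * d * x⁻¹ * d⁻¹) * c⁻¹ by group]
    exact H70.conj_mem_of_mem_norm (hD (h.s.top.le (h.s.UB a1)))
      (mul_mem (H70.conj_mem_of_mem_norm (hD (h.s.core_le hx)) hd) (inv_mem hd))
  have a1 : pCoreOf 2 H ≤ B := fun x hx => h.s.top.cz ⟨h.s.core_le hx, fun z hz => by
    refine (commutatorElement_eq_one_iff_mul_comm.1 (mem_bot.1 (h.disj.le ⟨?_, ?_⟩))).symm
    · obtain ⟨a, ha, a', ha', d, hd, rfl⟩ := r.Z_split h.s.cl h.s.par h.s.nc hz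
      exact key x hx a ha a' ha' _ h.nD d hd
    · obtain ⟨a', ha', a, ha, d, hd, rfl⟩ := r'.Z_split h.s.cl h.s'.par h.s'.nc hz
      rw [h.s.cl.comm_symm (r.VB ha) (r'.VB ha')]
      exact key x hx a ha a' ha' _ h.symm.nD d hd⟩
  refine le_antisymm (r.core_eq ▸ H70.pCoreOf_le_of_le h.s.le (a1.trans r.BL)) (H70.le_pCoreOf
    ((inf_le_left.trans r.BL).trans h.s.le) (h.s.norm_of (H70.norm_inf h.s.top.norm (H70.norm_centralizer h.norm))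
      (r.EL.trans (r.core_eq ▸ r.normQ))) (h.s.cl.pg.to_le inf_le_left))

theorem Sd2.splitQ (h : Sd2 H H' T K K' B L L' V V' q) {s : G} (hs : s ∈ B ⊓ 𝒞(V)) :
    ∃ a ∈ V, ∃ c ∈ B ⊓ 𝒞(V) ⊓ 𝒞(V'), s = a * c := by
  obtain ⟨F, _, _, v, m, -, r⟩ := h.s.re
  obtain ⟨a, ha, a', ha', c, hc, rfl⟩ := h.s.good.split h.s.par h.s.cl h.s.nc hs.1
  have a1 : a' ∈ 𝒞(V) := (𝒞(V).mul_mem_cancel_left (r.VC ha)).1 ((𝒞(V).mul_mem_cancel_right hc.1.2).1 hs.2)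
  exact ⟨_, mul_mem ha (r.ZV ((h.s.par.inf_cent h.s.good h.s'.nc).le ⟨ha', a1⟩)), c, hc, rfl⟩

theorem Sd2.Ph_le (h : Sd2 H H' T K K' B L L' V V' q) : Ph (B ⊓ 𝒞(V)) ≤ Ph (B ⊓ 𝒞(V')) :=
  Ph_le_iff.2 fun s hs => by
    obtain ⟨a, ha, c, hc, rfl⟩ := h.splitQ hs
    rw [mul_assoc, ← mul_assoc c, ← hc.1.2 a ha, mul_assoc, ← mul_assoc, ea_sq h.s.good.ea ha, one_mul]
    exact sq_mem_Ph ⟨hc.1.1, hc.2⟩

theorem Sd2.cv (h : Sd2 H H' T K K' B L L' V V' q) : B ⊓ 𝒞(V) ≤ V := fun s hs => by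
  have a1 : Ph (B ⊓ 𝒞(V)) = ⊥ := h.two _ (h.s.cl.pg.to_le (GCT.Ph_le.trans inf_le_left))
    (norm_Ph (h.core_eq ▸ H70.le_norm_pCoreOf H))
    (le_antisymm h.Ph_le h.symm.Ph_le ▸ norm_Ph (h.symm.core_eq ▸ H70.le_norm_pCoreOf H'))
  obtain ⟨a, ha, c, hc, rfl⟩ := h.splitQ hs
  refine mul_mem ha (h.s.good.ZV ⟨hc.1.1, fun b hb => ?_⟩)
  obtain ⟨a, ha, a', ha', c', hc', rfl⟩ := h.s.good.split h.s.par h.s.cl h.s.nc hb
  exact (Commute.mul_left (Commute.mul_left (hc.1.2 a ha) (hc.2 a' ha'))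
    (commutatorElement_eq_one_iff_mul_comm.1 (mem_bot.1 (a1 ▸ comm_mem_Ph hc'.1 hc.1)))).eq

theorem Sd2.nE (h : Sd2 H H' T K K' B L L' V V' q) : 𝒩(V) ≤ 𝒩(pResidualOf 2 L) :=
  h.s.res_eq' h.norm ▸ h.s.un V (h.s.cl.pg.to_le h.s.good.VB) (fun e => h.s.good.not_le (e ▸ bot_le))
    (h.s.nV h.norm)

theorem Sd2.hs (h : Sd2 H H' T K K' B L L' V V' q) (g : G) (hg : g ∈ 𝒩(V)) (h2 : E2 g)
    (e : ∀ e ∈ pResidualOf 2 L, ⁅g, e⁆ ∈ V) : g ∈ V := by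
  obtain ⟨F, _, _, v, m, -, r⟩ := h.s.re
  have a1 : pCoreOf 2 H = V := h.core_eq.trans (le_antisymm h.cv (le_inf r.VB r.VC))
  have a2 := h.s.hs (zpowers g ⊔ V) (H70.isPGroup_sup_of_norm (J3.E2.isPGroup h2) r.pgV (zpowers_le.2 hg))
  rw [a1, ← h.s.res_eq' h.norm] at a2
  exact a2 le_sup_right (sup_le (zpowers_le.2 (h.nE hg)) (le_normalizer.trans h.nE))
    (H70.le_relCent.1 (sup_le (zpowers_le.2 ⟨hg, e⟩) (H70.le_relCent.2 ⟨le_normalizer, r.U_le⟩))).2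
    (mem_sup_left (mem_zpowers g))

theorem Sd2.tw (h : Sd2 H H' T K K' B L L' V V' q) : Tw B L L' V V' q :=
  ⟨h.s.lc, h.s.cl, h.s.re, h.s'.re, h.s.nc, h.cv, h.symm.cv, h.disj, h.nE, h.symm.nE, h.hs, h.symm.hs⟩

end Cfsg.Agent.GCT
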