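import Cfsg.Agent.GCT.PA
import Cfsg.Agent.GCT.Sp2

set_option autoImplicit false
set_option linter.unusedVariables false
set_option linter.unusedSectionVars false

namespace Cfsg.Agent.GCT

open Cfsg Subgroup Matrix
open Cfsg.Agent.H70 (cj IsChar)
open Cfsg.Agent.H92 (SylIn)
open Cfsg.Agent.H69 (zOf Zv)
open Cfsg.Agent.H21 (maxEAOf)
open Cfsg.Agent.GOLD (EA)
open Cfsg.Agent.R2 (Two)
open Cfsg.Agent.J3 (E2)
open scoped Cfsg.Agent.H49 Cfsg.Agent.H72 commutatorElement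

universe u

variable {G : Type u} [Group G] [Finite G]

variable {N B L L' V V' : Subgroup G} {q : ℕ}

namespace PG

theorem exists_odd (g : G) : ∃ m, Odd m ∧ E2 (g ^ m) := by
  obtain ⟨k, m, hm, e⟩ := Nat.exists_eq_two_pow_mul_odd (orderOf_pos g).ne'
  exact ⟨m, hm, k, by rw [← pow_mul, mul_comm, ← e, pow_orderOf_eq_one]⟩

theorem e2_pow {g : G} (h : E2 g) (k : ℕ) : E2 (g ^ k) := by
  obtain ⟨n, e⟩ := h
  exact ⟨n, by rw [← pow_mul, mul_comm, pow_mul, e, one_pow]⟩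

theorem mem_B (h : Al3 N B L L' V V' q) {g : G} (h1 : g ∈ N) (h2 : g ∈ 𝒩(B)) (e : E2 g) :
    g ∈ B :=
  H70.le_sylIn_of_norm' h.syl (zpowers_le.2 h1) e.isPGroup (zpowers_le.2 h2) (mem_zpowers g)

end PG

open PG

theorem Al3.norm_of_mem (h : Al3 N B L L' V V' q) {g : G} (h1 : g ∈ N) (h2 : g ∈ 𝒩(B)) :
    g ∈ 𝒩(V) := by
  by_contra n
  obtain ⟨_, ⟨k, rfl⟩, e⟩ := exists_odd g
  have a := h.toAl.two.norm_A (mem_B h (pow_mem h1 _) (pow_mem h2 _) e)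
  rw [pow_succ, pow_mul, sq] at a
  exact n ((mul_mem_cancel_left (pow_mem (h.toAl.mul_norm h2 h2 n n) k)).1 a)

theorem Al3.exists_inv (h : Al3 N B L L' V V' q) (hO : pResidual 2 G ≤ N) {y : G} (hy : y ∈ 𝒩(B))
    (n : y ∉ 𝒩(V)) : ∃ t : G, t * t = 1 ∧ t ∉ N := by
  have yN : y ∉ N := fun e => n (h.norm_of_mem e hy)
  obtain ⟨p, hp, hq⟩ := Nat.exists_prime_and_dvd (n := q - 1) (by have := h.four; omega)
  have := Fact.mk hp
  obtain ⟨F, _, _, v, m, e, r⟩ := h.re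
  obtain ⟨F', _, _, v', m', e', r'⟩ := h.re'
  have p2 : p ≠ 2 := by
    obtain ⟨n, h1, e'⟩ := r.exists_pow
    rintro rfl
    have := dvd_pow_self 2 (show n ≠ 0 by omega)
    have := h.four
    omega
  obtain ⟨k, k1, k2, k3⟩ := r.exists_pel h.toAl.inf_cent.le hp (e ▸ hq)
  obtain ⟨k', k1', k2', k3'⟩ := r'.exists_pel h.toAl.symm.inf_cent.le hp (e' ▸ hq)
  have pg : ∀ {k : G}, k ^ p = 1 → IsPGroup p (zpowers k) := fun {k} hk => by
    rintro ⟨_, i, rfl⟩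
    refine ⟨1, Subtype.ext ?_⟩
    show (k ^ i) ^ p ^ 1 = 1
    rw [pow_one, ← zpow_natCast, ← _root_.zpow_mul, mul_comm, _root_.zpow_mul, zpow_natCast, hk,
      _root_.one_zpow]
  obtain ⟨P, hP, kP⟩ := H92.exists_sylIn_ge (H := N ⊓ 𝒩(B))
    (zpowers_le.2 ⟨h.le k1.1, k1.2⟩) (pg k2)
  obtain ⟨g, hg, gP⟩ := hP.exists_conj (zpowers_le.2 ⟨h.le' k1'.1, k1'.2⟩) (pg k2')
  have cP : ∀ s ∈ B, s ∈ 𝒞(P) → s = 1 := fun s hs hc => by
    rw [← mem_bot, ← h.toAl.disj]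
    refine ⟨k3 ⟨hs, H49.cent_le_cent1 (kP (mem_zpowers k)) hc⟩, ?_⟩
    have a : g⁻¹ * s * g ∈ V' ⊓ 𝒞(L') := k3' ⟨H70.conj_mem_of_mem_norm' hg.2 hs,
      H49.mem_cent1.2 (by
        rw [show g⁻¹ * s * g * k' = g⁻¹ * (s * (g * k' * g⁻¹)) * g by group,
          ← hc _ (gP _ (mem_zpowers k'))]
        group)⟩
    have := H70.conj_mem_of_mem_norm (h.nD' ⟨hg.2, h.symm.norm_of_mem hg.1 hg.2⟩) a
    rwa [show g * (g⁻¹ * s * g) * g⁻¹ = s by group] at this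
  haveI := h.nor
  obtain ⟨u, hu, nP⟩ := hP.frattini (g := y)
    (H70.norm_inf (L := 𝒩(B)) H70.norm_of_normal le_normalizer hy)
  have n1 : u * y ∉ N := fun e => yN ((N.mul_mem_cancel_left hu.1).1 e)
  have nB : u * y ∈ 𝒩(B) := mul_mem hu.2 hy
  generalize u * y = y₁ at nP n1 nB
  obtain ⟨j, hj, e2⟩ := exists_odd y₁
  have n2 : y₁ ^ j ∉ N := fun e => n1 (by
    obtain ⟨i, hi⟩ := H70.exists_pow_mem_pRes (p := 2) (mem_top y₁)
    exact H70.mem_of_pow_mem_coprime ((Nat.coprime_two_right.2 hj).pow_right i) e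
      (hO (H70.pRes_top (p := 2) (G := G) ▸ hi)))
  obtain ⟨i, n3, s3⟩ := Sp2.exists_sq n2 e2
  refine ⟨_, ?_, n3⟩
  have sB := mem_B h s3 (mul_mem (pow_mem (pow_mem nB _) _) (pow_mem (pow_mem nB _) _))
    (by rw [← pow_add]; exact e2_pow e2 _)
  have sP := mul_mem (pow_mem (pow_mem nP j) i) (pow_mem (pow_mem nP j) i)
  generalize (y₁ ^ j) ^ i * (y₁ ^ j) ^ i = s at sB sP
  refine cP s sB fun w hw => ?_
  have : w * s * w⁻¹ * s⁻¹ ∈ B ⊓ P :=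
    ⟨B.mul_mem (H70.conj_mem_of_mem_norm (hP.le hw).2 sB) (inv_mem sB), by
      have := mul_mem hw (H70.conj_mem_of_mem_norm sP (inv_mem hw))
      rwa [← mul_assoc, ← mul_assoc] at this⟩
  rwa [disjoint_iff.1 (IsPGroup.disjoint_of_ne 2 p p2.symm B P h.cl.pg hP.pgroup), mem_bot,
    mul_inv_eq_one, mul_inv_eq_iff_eq_mul] at this

end Cfsg.Agent.GCT
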