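import Cfsg.Agent.GCT.PB0
import Cfsg.Agent.GCT.P1
import Cfsg.Agent.GCT.NW

/-! The two configurations of the pushing up theorem S3090 (notes/GCT.md, part 3). -/

set_option autoImplicit false
set_option linter.unusedVariables false
set_option linter.unusedSectionVars false

namespace Cfsg.Agent.GCT

open Cfsg Subgroup Matrix
open Cfsg.Agent.H70 (cj IsChar)
open Cfsg.Agent.H92 (SylIn)
open Cfsg.Agent.H69 (zOf Zv)
open Cfsg.Agent.H21 (maxEAOf)
open Cfsg.Agent.GOLD (EA)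
open Cfsg.Agent.R2 (Two)
open Cfsg.Agent.J3 (E2)
open scoped Cfsg.Agent.H49 Cfsg.Agent.H72 commutatorElement

universe u

variable {G : Type u} [Group G] [Finite G]

variable {H T K M B L V V' : Subgroup G} {q : ℕ}

theorem Pu.cj (h : Pu H T K) (g : G) : Pu (cj g H) (cj g T) (cj g K) where
  lc := h.lc
  ch := h.ch.cj g
  syl := H70.sylIn_cj h.syl g
  res := by rw [← H70.cj_pRes, h.res]
  sim := fun X a => by
    rcases h.sim (H70.cj g⁻¹ X) (by rw [← H70.cj_normalizer]; exact H70.cj_le_iff_le_cj_inv.1 a) with k | k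
    · exact Or.inl (H70.cj_le_iff_le_cj_inv.2 k)
    · have := H70.isPGroup_cj g k
      rw [H70.cj_inf, H70.cj_cj_inv] at this
      exact Or.inr this
  hs := fun S a b c d => by
    rw [← H70.cj_pCoreOf] at b d ⊢
    rw [← H70.cj_normalizer] at c
    rw [← H70.cj_cj_inv g S] at c d ⊢
    rw [← H70.cj_commutator] at d
    exact H70.cj_mono g (h.hs _ (H70.isPGroup_cj _ a) (H70.cj_le_iff_le_cj_inv.1 b)
      ((H70.cj_le_cj_iff g).1 c) ((H70.cj_le_cj_iff g).1 d))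
  un := fun C a b c => by
    have := H70.cj_mono g (h.un (H70.cj g⁻¹ C) (H70.isPGroup_cj _ a) (mt H70.cj_eq_bot_iff.1 b)
      (by rw [← H70.cj_normalizer]; exact H70.cj_le_iff_le_cj_inv.1 c))
    rwa [H70.cj_normalizer, H70.cj_normalizer, H70.cj_cj_inv] at this

theorem Sd.cj (h : Sd H T K B L V V' q) {g : G} (hg : g ∈ 𝒩(T)) :
    Sd (cj g H) T (cj g K) B (cj g L) (cj g V) (cj g V') q := by
  have hB : g ∈ 𝒩(B) := h.top.jt ▸ H72.norm_jt le_rfl hg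
  refine ⟨by simpa only [H70.cj_eq_self hg] using h.toPu.cj g, h.cl, h.top, h.re.cj hB, h.par.cj hB,
    by rw [← H70.cj_centralizer, H70.cj_le_cj_iff]; exact h.nc, H70.cj_mono g h.le,
    by rw [← h.sup, H70.cj_sup, H70.cj_eq_self hg], fun t ht hV => ?_⟩
  have := H70.cj_mono g (h.uq (g⁻¹ * t * g) (by simpa using H70.conj_mem_of_mem_norm (inv_mem hg) ht)
    (by rw [← H70.cj_normalizer] at hV; exact H70.mem_cj.1 hV))
  rwa [← H70.cj_mul, show g * (g⁻¹ * t * g) = t * g by group, H70.cj_mul, H70.cj_sup, H70.cj_inf,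
    H70.cj_centralizer, H70.cj_pRes] at this

/-- The local theorem in `H`. -/
theorem Pu.exists_real (h : Pu H T K) (ne : T ≠ ⊥) (h1 : T ≤ M) (h2 : ¬ H ≤ M)
    (h3 : ∀ X, T ≤ X → X < H → X ≤ M) (hx : ¬ 𝒩(T) ≤ 𝒩(K)) :
    ∃ L V q, Cl2 (Bm 2 T) ∧ Top (Bm 2 T) T ∧ Real (Bm 2 T) L V q ∧ L ≤ H ∧ T ⊔ L = H ∧
      ∀ t ∈ T, t ∈ 𝒩(V) → H70.cj t (pResidualOf 2 L) ≤ pResidualOf 2 L ⊔ H ⊓ 𝒞(V) := by
  have k0 : ∀ C X : Subgroup G, C ≤ T → C ≠ ⊥ → 𝒩(T) ≤ 𝒩(C) → T ≤ X → X ≤ 𝒩(C) → H ⊓ X ≤ M :=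
    fun C X a b c d e => h3 _ (le_inf h.syl.le d) (lt_of_le_of_ne inf_le_left fun k =>
      hx (c.trans (h.un C (h.syl.pgroup.to_le a) b ((k.ge.trans inf_le_right).trans e))))
  have k1 : ∀ C, H72.ChIn C (Bm 2 T) → C ≠ ⊥ → H ⊓ 𝒩(C) ≤ M := fun C a b =>
    have c := (H72.norm_bm le_rfl).trans a.norm
    k0 C _ (a.1.trans H72.bm_le) b c (le_normalizer.trans c) le_rfl
  have ch := H72.isChar_subtype h.ch
  have am : Amb (T.subgroupOf H) (M.subgroupOf H) :=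
    { lc := fun R a _ => by simpa using ch.inf_normalizer le_top a
      syl := H72.sylIn_subgroupOf h.syl
      cz := by
        rw [← H70.map_subtype_le_iff, H70.map_subtype_centralizer, H72.map_subgroupOf_oz h.syl.le]
        exact k0 _ _ (H70.oz_le T) (H70.oz_ne_bot h.syl.pgroup ne) (H70.norm_oz le_rfl)
          (H70.le_cent_oz T) (centralizer_le_normalizer _)
      nc := fun C c1 c2 => by
        rw [← H72.chIn_map H.subtype_injective, H72.map_subgroupOf_bm h.syl.le] at c1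
        rw [← H70.map_subtype_le_iff, H70.map_subtype_normalizer]
        exact k1 _ c1 (mt H70.map_subtype_eq_bot_iff.1 c2)
      ne := fun e => h2 (subgroupOf_eq_top.1 e) }
  obtain ⟨L, q, o, -⟩ := exists_out ch am.syl (inf_le_right.trans am.cz) am.nc
    fun e => am.ne (top_le_iff.1 e)
  have uq : ∀ t : H, (t : G) ∈ T → (t : G) ∈ 𝒩(Zv 2 (L.map H.subtype)) →
      H70.cj (t : G) (pResidualOf 2 (L.map H.subtype)) ≤
        pResidualOf 2 (L.map H.subtype) ⊔ H ⊓ 𝒞(Zv 2 (L.map H.subtype)) := fun t a b => by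
    have := map_mono (f := H.subtype) (am.uq ch le_top o (o.cj am.nc (H72.le_norm_bm (show t ∈ T.subgroupOf H from a))
      (show t ∈ M.subgroupOf H from h1 a)) le_top le_top (map_injective H.subtype_injective (by
        rw [← cj_Zv, H70.map_cj, H69.map_Zv H.subtype_injective]
        exact (H70.cj_eq_self b).symm)))
    rwa [← H70.cj_pRes, H70.map_cj, Subgroup.map_sup, H70.map_subtype_pRes, H70.map_subtype_centralizer,
      H69.map_Zv H.subtype_injective] at this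
  obtain ⟨⟨F, _, _, M₁, Y, D, T₀, rfl, k⟩, a1⟩ := o
  have o := k.r.map H.subtype_injective
  rw [H72.map_subgroupOf_bm h.syl.le, H70.map_subtype_pCoreOf] at o
  have a2 : ¬ L.map H.subtype ≤ M := mt H70.map_subtype_le_iff.1 a1
  have hd : ∀ C, H72.ChIn C (Bm 2 T) → C ≠ ⊥ → ¬ L.map H.subtype ≤ 𝒩(C) := fun C c1 c2 e =>
    a2 ((le_inf (map_subtype_le _) e).trans (k1 C c1 c2))
  obtain ⟨Y', D', T', k'⟩ := H72.exists_rk o (H69.CharPOf.map H.subtype_injective k.hc) hd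
  have cl := cl2_of_rk k' hd
  have re := real_of_rk k'
  refine ⟨_, _, _, cl, top_of cl (H72.jt_bm.symm.trans (dec_of_real cl re hd).jt) rfl, re,
    map_subtype_le _, ?_, fun t a b => uq ⟨t, h.syl.le a⟩ a b⟩
  exact by_contra fun e => a2 (le_sup_right.trans (h3 _ le_sup_left
    (lt_of_le_of_ne (sup_le h.syl.le (map_subtype_le _)) e)))

theorem Pu.exists_sd2 (h : Pu H T K) (ne : T ≠ ⊥) (h1 : T ≤ M) (h2 : ¬ H ≤ M)
    (h3 : ∀ X, T ≤ X → X < H → X ≤ M) (two : ∀ (g : G) (C : Subgroup G), IsPGroup 2 C → C ≠ ⊥ →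
      H ≤ 𝒩(C) → H70.cj g H ≤ 𝒩(C) → g ∈ 𝒩(K)) (hx : ¬ 𝒩(T) ≤ 𝒩(K)) :
    ∃ H' K' B L L' V V' q y, Sd2 H H' T K K' B L L' V V' q ∧ y ∈ 𝒩(B) ∧ y ∉ 𝒩(V) := by
  obtain ⟨L, V, q, cl, tp, re, a1, a2, uq⟩ := h.exists_real ne h1 h2 h3 hx
  have nB : 𝒩(T) ≤ 𝒩(Bm 2 T) := H72.norm_bm le_rfl
  have gd := re.good cl
  obtain ⟨y, hy, nc⟩ : ∃ y ∈ 𝒩(T), ¬ V ≤ 𝒞(H70.cj y V) := by
    by_contra e
    push Not at e
    obtain ⟨F, _, _, v, m, -, r⟩ := re
    have b : H70.ncl V 𝒩(T) ≤ pCoreOf 2 L := r.core_eq ▸ H70.ncl_le_iff.2 fun g hg =>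
      le_inf (gd.cj (nB hg)).VB (H70.cent_comm.1 (e g hg))
    refine hx ((H70.le_norm_ncl V _).trans (h.un _ ((H70.pCoreOf_isPGroup L).to_le b)
      (fun k => gd.not_le ((H70.le_ncl V _).trans (k.le.trans bot_le))) ?_))
    rw [← a2]
    exact sup_le (le_normalizer.trans (H70.le_norm_ncl V _)) (H70.norm_of_commutator_le
      ((commutator_mono b le_rfl).trans ((r.commQ cl).trans (H70.le_ncl V _))))
  have s : Sd H T K (Bm 2 T) L V (H70.cj y V) q := ⟨h, cl, tp, re, gd.cj (nB hy), nc, a1, a2, uq⟩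
  have s' := s.cj hy
  rw [s'.re.good cl |>.uniq gd s'.par cl (mt H70.cent_comm.1 nc) s'.nc] at s'
  refine ⟨_, _, _, _, _, _, _, _, y, ⟨s, s', fun C c1 c2 c3 => by_contra fun c4 => nc (s.comm (nB hy)
    (H72.normalizer_le_normalizer_pCoreOf H ?_))⟩, nB hy, fun e => nc ?_⟩
  · rw [← h.sup_eq]
    exact H70.norm_sup (zpowers_le.2 (two y C c1 c4 c2 c3)) (zpowers_le.2 hy) (mem_zpowers y)
  · rw [H70.cj_eq_self e]
    exact H70.IsElem_le_cent gd.ea

end Cfsg.Agent.GCT
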